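import Mathlib
import Cfsg.Agent.Lib.Helper10.Co1O.Defs
import Cfsg.Agent.Lib.Helper3.OutAut.M24

/-!
S2069 (helper10's market), leaf CO4a (helper27): an automorphism of `Nb = 2^11 : M24` preserving
`Eb = 2^11` is conjugation by an element of `Nb` modulo `Eb` (via `Out(M24) = 1`).
-/

set_option autoImplicit false

namespace Cfsg.Agent.Lib.Helper27.Co1Leaf

open Cfsg
open Cfsg.Agent.Lib.Helper10.Co1O

/-- the section `σ ↦ mon σ 0` with values in `Nb` -/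
noncomputable def sN (σ : ↥M24) : ↥Nb := ⟨mon σ 0, mon_mem_Nb σ 0⟩

theorem sN_mul (σ τ : ↥M24) : sN (σ * τ) = sN σ * sN τ := by
  apply Subtype.ext
  show mon (σ * τ) 0 = mon σ 0 * mon τ 0
  rw [mon_mul, actW_zero, add_zero]

/-- the permutation part of an element of `Nb` -/
noncomputable def pp (x : ↥Nb) : ↥M24 := Classical.choose ((mem_Nb_iff x.1).mp x.2)

theorem pp_spec (x : ↥Nb) : ∃ w, mon (pp x) w = (x : Cfsg.Spor.Co1) :=
  Classical.choose_spec ((mem_Nb_iff x.1).mp x.2)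

theorem pp_eq {x : ↥Nb} {σ : ↥M24} {w : ↥golayCode} (h : mon σ w = (x : Cfsg.Spor.Co1)) :
    pp x = σ := by
  obtain ⟨u, hu⟩ := pp_spec x
  rw [← h] at hu
  exact ((mon_eq_iff _ _ _ _).mp hu).1

theorem pp_mul (x y : ↥Nb) : pp (x * y) = pp x * pp y := by
  obtain ⟨w, hw⟩ := pp_spec x
  obtain ⟨u, hu⟩ := pp_spec y
  apply pp_eq (w := w + actW (pp x) u)
  rw [← mon_mul, hw, hu]
  rfl

/-- the permutation part as a homomorphism -/
noncomputable def ppHom : ↥Nb →* ↥M24 := MonoidHom.mk' pp pp_mul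

theorem ppHom_apply (x : ↥Nb) : ppHom x = pp x := rfl

theorem pp_eq_one_iff (x : ↥Nb) : pp x = 1 ↔ (x : Cfsg.Spor.Co1) ∈ Eb := by
  constructor
  · intro h
    obtain ⟨w, hw⟩ := pp_spec x
    rw [h] at hw
    exact (mem_Eb_iff _).mpr ⟨w, hw⟩
  · intro h
    obtain ⟨w, hw⟩ := (mem_Eb_iff _).mp h
    exact pp_eq hw

theorem pp_sN (σ : ↥M24) : pp (sN σ) = σ := pp_eq (w := 0) rfl

/-- LEAF CO4a -/
theorem exists_conj_mod_Eb (β : MulAut ↥Nb)
    (hβ : ∀ x : ↥Nb, (x : Cfsg.Spor.Co1) ∈ Eb → ((β x : ↥Nb) : Cfsg.Spor.Co1) ∈ Eb) :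
    ∃ n : ↥Nb, ∀ x : ↥Nb, ((n⁻¹ * β x * n * x⁻¹ : ↥Nb) : Cfsg.Spor.Co1) ∈ Eb := by
  -- the induced map on M24
  have hmul : ∀ σ τ : ↥M24, pp (β (sN (σ * τ))) = pp (β (sN σ)) * pp (β (sN τ)) := by
    intro σ τ
    rw [sN_mul, map_mul, pp_mul]
  let βbar : ↥M24 →* ↥M24 := MonoidHom.mk' (fun σ => pp (β (sN σ))) hmul
  have hbar : ∀ σ, βbar σ = pp (β (sN σ)) := fun σ => rfl
  -- key: pp ∘ β = βbar ∘ pp
  have key : ∀ x : ↥Nb, pp (β x) = βbar (pp x) := by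
    intro x
    have he : pp ((sN (pp x))⁻¹ * x) = 1 := by
      rw [← ppHom_apply, map_mul, map_inv, ppHom_apply, ppHom_apply, pp_sN, inv_mul_cancel]
    have he' := hβ _ ((pp_eq_one_iff _).mp he)
    have hx : x = sN (pp x) * ((sN (pp x))⁻¹ * x) := by group
    rw [hbar]
    conv_lhs => rw [hx, map_mul, pp_mul, (pp_eq_one_iff _).mpr he', mul_one]
  have hsurj : Function.Surjective βbar := by
    intro τ
    refine ⟨pp (β.symm (sN τ)), ?_⟩
    rw [← key, MulEquiv.apply_symm_apply, pp_sN]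
  haveI : Finite ↥M24 := inferInstance
  have hinj : Function.Injective βbar := Finite.injective_iff_surjective.mpr hsurj
  let ψ : MulAut ↥M24 := MulEquiv.ofBijective βbar ⟨hinj, hsurj⟩
  obtain ⟨g, hg⟩ := Cfsg.Agent.Lib.Helper3.OutM24.all_inner ψ
  have hconj : ∀ σ, βbar σ = g * σ * g⁻¹ := by
    intro σ
    have h1 : ψ σ = MulAut.conj g σ := by rw [hg]
    rw [MulAut.conj_apply] at h1
    exact h1
  refine ⟨sN g, fun x => ?_⟩
  apply (pp_eq_one_iff _).mp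
  rw [← ppHom_apply, map_mul, map_mul, map_mul, map_inv, map_inv, ppHom_apply, ppHom_apply,
    ppHom_apply, pp_sN, key, hconj]
  group

end Cfsg.Agent.Lib.Helper27.Co1Leaf
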